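import Mathlib
import Cfsg.Agent.PGroup.Basic

/-!
Two-closed groups of degree twice a prime square have a fixed-point-free element of prime order.
-/

set_option autoImplicit false

namespace CfsgLib.TwoClosedPSq

open MulAction
open scoped commutatorElement

variable {G Ω : Type*} [Group G] [MulAction G Ω] {p : ℕ} [hp : Fact p.Prime]

/-- The elements of `P` fixing an orbit pointwise. -/
def orbitKer (P : Subgroup G) (a : Ω) : Subgroup P where
  carrier := {q | ∀ x ∈ orbit P a, q • x = x}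
  one_mem' := fun x _ => one_smul _ x
  mul_mem' := fun {q r} hq hr x hx => by rw [mul_smul, hr x hx, hq x hx]
  inv_mem' := fun {q} hq x hx => inv_smul_eq_iff.2 (hq x hx).symm

instance orbitKer_normal (P : Subgroup G) (a : Ω) : (orbitKer P a).Normal := by
  refine ⟨fun q hq g x hx => ?_⟩
  rw [mul_smul, mul_smul, hq (g⁻¹ • x) ((mapsTo_smul_orbit g⁻¹ a) hx), smul_inv_smul]

variable [Finite G] [FaithfulSMul G Ω]

theorem smul_eq_on_orbit {P : Subgroup G} {z : P} (hz : ∀ d : P, Commute z d) {a x : Ω}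
    (hx : x ∈ orbit P a) (hfix : z • a = a) : z • x = x := by
  obtain ⟨d, rfl⟩ := hx
  rw [smul_smul, (hz d).eq, mul_smul, hfix]

theorem smul_pow_eq_self {g : G} {x : Ω} (h : g • x = x) : ∀ n : ℕ, (g ^ n) • x = x := by
  intro n
  induction n with
  | zero => simp
  | succ n ih => rw [pow_succ, mul_smul, h, ih]

/-- A central element of order `p` in a subgroup `K`, when `K` is not trivial and normal. -/
theorem exists_central_prime {Q : Type*} [Group Q] [Finite Q] (hQ : IsPGroup p Q) (K : Subgroup Q)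
    [K.Normal] (hK : K ≠ ⊥) : ∃ z ∈ K, orderOf z = p ∧ ∀ d : Q, Commute z d := by
  obtain ⟨w, hwK, hw1, hw⟩ := CfsgLib.PGroup.exists_mem_central_mod hQ (M := ⊥) (N := K)
    (bot_lt_iff_ne_bot.2 hK)
  rw [Subgroup.mem_bot] at hw1
  obtain ⟨k, hk⟩ := IsPGroup.iff_orderOf.1 hQ w
  obtain ⟨j, rfl⟩ : ∃ j, k = j + 1 := ⟨k - 1, by
    rcases k with _ | k
    · rw [pow_zero, orderOf_eq_one_iff] at hk
      exact absurd hk hw1
    · rfl⟩
  refine ⟨w ^ p ^ j, K.pow_mem hwK _, ?_, fun d => ?_⟩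
  · rw [orderOf_pow' _ (pow_ne_zero _ hp.out.ne_zero), hk, Nat.gcd_eq_right
      (pow_dvd_pow p (Nat.le_succ j)), pow_succ', Nat.mul_div_left _ (pow_pos hp.out.pos j)]
  · exact Commute.pow_left (commutatorElement_eq_one_iff_commute.1 (Subgroup.mem_bot.1 (hw d))) _

/-- The main step: the kernel on the orbit of `a` is trivial. -/
theorem false_of_faithful_orbit (P : Sylow p G) (a b : Ω)
    (hcov : ∀ x, x ∈ orbit (P : Subgroup G) a ∨ x ∈ orbit (P : Subgroup G) b)
    (hdisj : ∀ x, x ∈ orbit (P : Subgroup G) a → x ∉ orbit (P : Subgroup G) b)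
    (hia : (stabilizer (P : Subgroup G) a).index = p ^ 2)
    (hib : (stabilizer (P : Subgroup G) b).index = p ^ 2)
    (hK : orbitKer (P : Subgroup G) a = ⊥)
    (hno : ∀ g : G, (orderOf g).Prime → ∃ ω : Ω, g • ω = ω)
    (hcl : ∀ σ : Equiv.Perm Ω, (∀ x y : Ω, ∃ g : G, σ x = g • x ∧ σ y = g • y) →
      ∃ g : G, ∀ x : Ω, σ x = g • x) : False := by
  classical
  haveI hPn : Group.IsNilpotent (P : Subgroup G) := P.isPGroup'.isNilpotent
  set Pa := stabilizer (P : Subgroup G) a
  set Kb := orbitKer (P : Subgroup G) b with hKb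
  have hnt : (⊤ : Subgroup (P : Subgroup G)) ≠ ⊥ := by
    intro h
    have h1 : Pa.index = 1 := by rw [show Pa = ⊤ from eq_top_iff.2 (h.le.trans bot_le), Subgroup.index_top]
    rw [hia] at h1
    exact absurd ((Nat.pow_eq_one.1 h1).resolve_right (by norm_num)) hp.out.ne_one
  obtain ⟨z, -, hzo, hzc⟩ := exists_central_prime P.isPGroup' ⊤ hnt
  obtain ⟨ω, hω⟩ := hno z (by rw [Subgroup.orderOf_coe, hzo]; exact hp.out)
  change z • ω = ω at hω
  have hz1 : z ≠ 1 := fun h => hp.out.ne_one (by rw [← hzo, h, orderOf_one])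
  have hza : z • a ≠ a := fun h => hz1 (Subgroup.mem_bot.1 (hK ▸
    (fun x hx => smul_eq_on_orbit hzc hx h : z ∈ orbitKer (P : Subgroup G) a)))
  have hωb : ω ∈ orbit (P : Subgroup G) b := (hcov ω).resolve_left fun h =>
    hza (smul_eq_on_orbit hzc (mem_orbit_symm.1 h) hω)
  have hzK : z ∈ Kb := fun x hx => smul_eq_on_orbit hzc (by rwa [orbit_eq_iff.2 hωb]) hω
  set M := Kb ⊔ Pa with hM
  have hlt : Pa < M := lt_of_le_of_ne le_sup_right fun e =>
    hza (mem_stabilizer_iff.1 (show z ∈ Pa by rw [e]; exact Subgroup.mem_sup_left hzK))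
  have hMi : M.index ∣ p ^ 2 ∧ M.index ≠ p ^ 2 := by
    refine ⟨hia ▸ Subgroup.index_dvd_of_le hlt.le, fun e => ?_⟩
    exact (Subgroup.index_strictAnti hlt).ne (e.trans hia.symm)
  obtain ⟨i, hi, hMe⟩ := (Nat.dvd_prime_pow hp.out).1 hMi.1
  have hi2 : i ≠ 2 := fun e => hMi.2 (e ▸ hMe)
  haveI hMn : M.Normal := by
    by_contra hn
    have hne : M ≠ ⊤ := fun e => hn (e ▸ inferInstance)
    have h1 : M < Subgroup.normalizer (M : Set (P : Subgroup G)) :=
      Group.normalizerCondition_of_isNilpotent M (lt_top_iff_ne_top.2 hne)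
    have hi1 : i = 1 := by
      have : i ≠ 0 := fun e => hne (Subgroup.index_eq_one.1 (by rw [hMe, e, pow_zero]))
      omega
    have h2 := Subgroup.relIndex_mul_index h1.le
    rw [hMe, hi1, pow_one] at h2
    rcases (Nat.dvd_prime hp.out).1 (Dvd.intro_left _ h2) with h | h
    · exact hn (Subgroup.normalizer_eq_top_iff.1 (Subgroup.index_eq_one.1 h))
    · exact (Subgroup.index_strictAnti h1).ne (by rw [h, hMe, hi1, pow_one])
  have hKM : Kb < M := lt_of_le_of_ne le_sup_left fun e => by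
    have h1 : Kb ≤ stabilizer (P : Subgroup G) b := fun q hq => hq b (mem_orbit_self b)
    have h2 := Nat.le_of_dvd (Nat.pos_of_ne_zero M.index_ne_zero_of_finite)
      (e ▸ Subgroup.index_dvd_of_le h1)
    rw [hib, hMe] at h2
    have h3 := Nat.pow_lt_pow_right hp.out.one_lt (show i < 2 by omega)
    omega
  obtain ⟨w, hwM, hwK, hwc⟩ := CfsgLib.PGroup.exists_mem_central_mod P.isPGroup' hKM
  have hinv : ∀ x, x ∉ orbit (P : Subgroup G) a → w • x ∉ orbit (P : Subgroup G) a := by
    intro x hx h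
    exact hx (by simpa using mapsTo_smul_orbit w⁻¹ a h)
  let σ0 : Ω → Ω := fun x => if x ∈ orbit (P : Subgroup G) a then x else w • x
  have hσbij : Function.Bijective σ0 := by
    refine ⟨fun x y h => ?_, fun y => ?_⟩
    · simp only [σ0] at h
      split_ifs at h with h1 h2 h2
      · exact h
      · exact absurd (h ▸ h1) (hinv y h2)
      · exact absurd (h.symm ▸ h2) (hinv x h1)
      · exact smul_left_cancel w h
    · by_cases hy : y ∈ orbit (P : Subgroup G) a
      · exact ⟨y, if_pos hy⟩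
      · refine ⟨w⁻¹ • y, ?_⟩
        have h1 : w⁻¹ • y ∉ orbit (P : Subgroup G) a := fun h =>
          hy (by simpa using mapsTo_smul_orbit w a h)
        simp only [σ0, if_neg h1, smul_inv_smul]
  have hmix : ∀ x y, x ∈ orbit (P : Subgroup G) a → y ∉ orbit (P : Subgroup G) a →
      ∃ g : G, x = g • x ∧ ((w : (P : Subgroup G)) : G) • y = g • y := by
    rintro _ y ⟨q, rfl⟩ hy
    have hm : q⁻¹ * w * q ∈ Pa ⊔ Kb := by
      rw [sup_comm]
      simpa using hMn.conj_mem w hwM q⁻¹
    obtain ⟨h, hh, k, hk, hhk⟩ := Subgroup.mem_sup_of_normal_right.1 hm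
    refine ⟨((q * h * q⁻¹ : (P : Subgroup G)) : G), ?_, ?_⟩
    · show q • a = (q * h * q⁻¹) • q • a
      rw [mul_smul, mul_smul, inv_smul_smul, show h • a = a from hh]
    · show w • y = (q * h * q⁻¹) • y
      have hyb : q⁻¹ • y ∈ orbit (P : Subgroup G) b :=
        mapsTo_smul_orbit q⁻¹ b ((hcov y).resolve_left hy)
      have e : w = q * (h * k) * q⁻¹ := by rw [hhk]; group
      conv_lhs => rw [e]
      rw [mul_smul, mul_smul, mul_smul, mul_smul, mul_smul, hk _ hyb]
  obtain ⟨g, hg⟩ := hcl (Equiv.ofBijective σ0 hσbij) fun x y => by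
    simp only [Equiv.ofBijective_apply, σ0]
    split_ifs with hx hy hy
    · exact ⟨1, (one_smul G x).symm, (one_smul G y).symm⟩
    · exact hmix x y hx hy
    · obtain ⟨g, h1, h2⟩ := hmix y x hy hx
      exact ⟨g, h2, h1⟩
    · exact ⟨w, rfl, rfl⟩
  have hga : ∀ x ∈ orbit (P : Subgroup G) a, g • x = x := fun x hx => by
    rw [← hg, Equiv.ofBijective_apply]
    exact if_pos hx
  have hgb : ∀ x, x ∉ orbit (P : Subgroup G) a → g • x = w • x := fun x hx => by
    rw [← hg, Equiv.ofBijective_apply]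
    exact if_neg hx
  have hcomm : ∀ d : (P : Subgroup G), Commute g (d : G) := by
    intro d
    refine FaithfulSMul.eq_of_smul_eq_smul (α := Ω) fun x => ?_
    rw [mul_smul, mul_smul]
    show g • d • x = d • g • x
    by_cases hx : x ∈ orbit (P : Subgroup G) a
    · rw [hga x hx, hga _ (mapsTo_smul_orbit d a hx)]
    · have hdx : d • x ∉ orbit (P : Subgroup G) a := fun h =>
        hx (by simpa using mapsTo_smul_orbit d⁻¹ a h)
      rw [hgb x hx, hgb _ hdx]
      have hxb : (d * w) • x ∈ orbit (P : Subgroup G) b :=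
        mapsTo_smul_orbit _ b ((hcov x).resolve_left hx)
      have h1 := hwc d _ hxb
      rw [smul_smul, commutatorElement_def] at h1
      rw [smul_smul, smul_smul, ← h1]
      congr 1
      group
  have hpow : ∀ n : ℕ, ∀ x, x ∉ orbit (P : Subgroup G) a → (g ^ n) • x = (w ^ n) • x := by
    intro n
    induction n with
    | zero => intro x _; simp
    | succ n ih =>
      intro x hx
      rw [pow_succ, pow_succ, mul_smul, mul_smul, hgb x hx, ih _ (hinv x hx)]
  obtain ⟨k, hk⟩ := P.isPGroup' w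
  have hgp : g ^ p ^ k = 1 := by
    refine FaithfulSMul.eq_of_smul_eq_smul (α := Ω) fun x => ?_
    rw [one_smul]
    by_cases hx : x ∈ orbit (P : Subgroup G) a
    · exact smul_pow_eq_self (hga x hx) _
    · rw [hpow _ x hx, hk, one_smul]
  have hz : IsPGroup p (Subgroup.zpowers g) := by
    refine (IsPGroup.iff_card).2 ?_
    obtain ⟨j, -, hj⟩ := (Nat.dvd_prime_pow hp.out).1 (orderOf_dvd_of_pow_eq_one hgp)
    exact ⟨j, by rw [Nat.card_zpowers, hj]⟩
  have hle : (P : Subgroup G) ≤ Subgroup.normalizer (Subgroup.zpowers g : Set G) := by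
    refine le_trans ?_ (Subgroup.centralizer_le_normalizer _)
    intro d hd
    rw [Subgroup.mem_centralizer_iff]
    intro y hy
    obtain ⟨n, rfl⟩ := Subgroup.mem_zpowers_iff.1 hy
    exact ((hcomm ⟨d, hd⟩).zpow_left n).eq
  have hgP : g ∈ (P : Subgroup G) :=
    P.is_maximal' (P.isPGroup'.to_sup_of_normal_right' hz hle) le_sup_left ▸
      Subgroup.mem_sup_right (Subgroup.mem_zpowers g)
  have hg1 : (⟨g, hgP⟩ : (P : Subgroup G)) = 1 := Subgroup.mem_bot.1 (hK ▸
    (hga : (⟨g, hgP⟩ : (P : Subgroup G)) ∈ orbitKer (P : Subgroup G) a))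
  have hg1' : g = 1 := congrArg Subtype.val hg1
  refine hwK fun x hx => ?_
  rw [← hgb x fun h => hdisj x h hx, hg1', one_smul]

end CfsgLib.TwoClosedPSq
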